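import Cfsg.Agent.H382.RIM.Frame
import Cfsg.Agent.H704.S8.Defs

/-!
# S4908: the row COVER from a model of the double cover (helper435)

`exists_chi` : `K` simple with multiplier of order 2, `σ : Γ → K` a perfect central extension with kernel `{1, z}`, `χ` an
irreducible character of `Γ` with `χ z = -χ 1`: every perfect central extension `N` of `X ≃* K` by `V` of order 2 has an
irreducible character of the same degree, nontrivial on `V`.
-/

set_option autoImplicit false

namespace Cfsg.Agent.H435.S8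

open Cfsg Cfsg.Agent.H51.Mult Cfsg.Agent.H382.RIM Cfsg.Agent.Characters.Core

universe u v w x y

theorem pce_of {K : Type v} [Group K] {X : Type y} [Group X] (e : X ≃* K) {N : Type u} [Group N] (V : Subgroup N)
    [V.Normal] (hc : V ≤ Subgroup.center N) (hp : commutator N = ⊤) (f : (N ⧸ V) ≃* X) :
    PCE ((e.toMonoidHom.comp f.toMonoidHom).comp (QuotientGroup.mk' V)) ∧
      ((e.toMonoidHom.comp f.toMonoidHom).comp (QuotientGroup.mk' V)).ker = V := by
  have hk : ((e.toMonoidHom.comp f.toMonoidHom).comp (QuotientGroup.mk' V)).ker = V := by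
    ext g
    rw [MonoidHom.mem_ker]
    constructor
    · intro hg
      have h1 : e (f (QuotientGroup.mk' V g)) = 1 := hg
      have h2 : f (QuotientGroup.mk' V g) = 1 := e.injective (by rw [h1, map_one])
      have h3 : QuotientGroup.mk' V g = 1 := f.injective (by rw [h2, map_one])
      exact (QuotientGroup.eq_one_iff g).1 h3
    · intro hg
      change e (f (QuotientGroup.mk' V g)) = 1
      rw [show QuotientGroup.mk' V g = 1 from (QuotientGroup.eq_one_iff g).2 hg, map_one, map_one]
  refine ⟨⟨?_, ?_, hp⟩, hk⟩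
  · exact e.surjective.comp (f.surjective.comp (QuotientGroup.mk'_surjective V))
  · rw [hk]; exact hc

theorem exists_chi {K : Type v} [Group K] {X : Type y} [Group X] (e : X ≃* K)
    {A : Type x} [CommGroup A] (hA : Cfsg.HasSchurMultiplier K A) (hcA : Nat.card A = 2)
    [IsSimpleGroup K] {Γ : Type w} [Group Γ] [Finite Γ] {σ : Γ →* K} (hσ : PCE σ)
    {z : Γ} (hz1 : z ≠ 1) (hker : ∀ g : Γ, σ g = 1 ↔ g = 1 ∨ g = z)
    {χ : Γ → ℂ} (hχ : IsIrrCharacter Γ χ) (hl : χ z = - χ 1)
    {N : Type u} [Group N] [Finite N] (V : Subgroup N) [V.Normal] (hV : Nat.card V = 2)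
    (hc : V ≤ Subgroup.center N) (hp : commutator N = ⊤) (hX : Nonempty ((N ⧸ V) ≃* X)) :
    ∃ ψ : N → ℂ, IsIrrCharacter N ψ ∧ (∃ v ∈ V, ψ v ≠ ψ 1) ∧ ψ 1 = χ 1 := by
  obtain ⟨f0⟩ := hX
  obtain ⟨hπ, hkerπ⟩ := pce_of e V hc hp f0
  set π := (e.toMonoidHom.comp f0.toMonoidHom).comp (QuotientGroup.mk' V) with hπdef
  have hK : Subgroup.center K = ⊥ := center_eq_bot (PCE.perfect hσ)
  have hcard : Nat.card σ.ker = 2 := by
    have h1 : (σ.ker : Set Γ) = {1, z} := by
      ext g
      rw [SetLike.mem_coe, MonoidHom.mem_ker, Set.mem_insert_iff, Set.mem_singleton_iff]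
      exact hker g
    have h2 : Nat.card σ.ker = (σ.ker : Set Γ).ncard := rfl
    rw [h2, h1, Set.ncard_pair hz1.symm]
  obtain ⟨θ, hθ⟩ := Cfsg.Agent.H990.TC.exists_surj_of_card hA hσ (hcard.trans hcA.symm) hπ
  have hcE : Nat.card N = Nat.card Γ := by
    have hfinK : Finite K := Finite.of_surjective σ hσ.surj
    have h1 : Nat.card σ.ker * Nat.card K = Nat.card Γ := by
      rw [← Subgroup.card_mul_index σ.ker, Subgroup.index_ker, MonoidHom.range_eq_top.2 hσ.surj,
        Nat.card_congr Subgroup.topEquiv.toEquiv]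
    have h2 : Nat.card π.ker * Nat.card K = Nat.card N := by
      rw [← Subgroup.card_mul_index π.ker, Subgroup.index_ker, MonoidHom.range_eq_top.2 hπ.surj,
        Nat.card_congr Subgroup.topEquiv.toEquiv]
    rw [hkerπ, hV] at h2
    rw [hcard] at h1
    rw [← h1, ← h2]
  have hbij : Function.Bijective θ :=
    (Nat.bijective_iff_surjective_and_card θ).2 ⟨hθ, hcE.symm⟩
  let f : Γ ≃* N := MulEquiv.ofBijective θ hbij
  refine ⟨χ ∘ f.symm.toMonoidHom, isIrr_comp f.symm.toMonoidHom f.symm.surjective hχ, ?_, ?_⟩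
  · have hnt : V ≠ ⊥ := by
      rintro rfl
      rw [Subgroup.card_bot] at hV
      omega
    obtain ⟨v, hv, hv1⟩ : ∃ v : N, v ∈ V ∧ v ≠ 1 := by
      obtain ⟨a, ha⟩ := Subgroup.ne_bot_iff_exists_ne_one.1 hnt
      exact ⟨(a : N), a.2, fun h => ha (Subtype.ext h)⟩
    refine ⟨v, hv, ?_⟩
    have h1 : f.symm v = z := by
      have h2 : f.symm v ∈ Subgroup.center Γ := by
        rw [Subgroup.mem_center_iff]
        intro g
        have h3 := Subgroup.mem_center_iff.1 (hc hv) (f g)
        apply f.injective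
        rw [map_mul, map_mul, MulEquiv.apply_symm_apply]
        exact h3
      have h4 : σ (f.symm v) = 1 := by
        have h5 : σ (f.symm v) ∈ Subgroup.center K := by
          rw [Subgroup.mem_center_iff]
          intro k
          obtain ⟨g, rfl⟩ := hσ.surj k
          rw [← map_mul, ← map_mul, Subgroup.mem_center_iff.1 h2 g]
        rw [hK] at h5
        exact Subgroup.mem_bot.1 h5
      rcases (hker _).1 h4 with h5 | h5
      · exfalso
        apply hv1
        apply f.symm.injective
        rw [h5, map_one]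
      · exact h5
    change χ (f.symm v) ≠ χ (f.symm 1)
    rw [h1, map_one, hl]
    intro h
    apply isIrr_apply_one_ne_zero hχ
    have h8 : (2 : ℂ) * χ 1 = 0 := by
      rw [two_mul]
      nth_rw 1 [← h]
      ring
    rcases mul_eq_zero.1 h8 with h9 | h9
    · norm_num at h9
    · exact h9
  · change χ (f.symm 1) = χ 1
    rw [map_one]

end Cfsg.Agent.H435.S8
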