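import Cfsg.Agent.H435.S8.CovTwo
import Cfsg.Agent.H382.RIM.MTwelve
import Cfsg.Agent.H640.S8.MTwelve
import Cfsg.Agent.H529.S8.Cov

/-!
# S4908, COVER for the Mathieu group of degree 12 (helper435)

The double cover has an irreducible signed permutation character of degree 12; `12 * 2 ^ i` and `24 * 2 ^ i` are no
degrees of `M12` or `Aut M12`.
-/

set_option autoImplicit false

namespace Cfsg.Agent.H435.S8.MTwelve

open Cfsg Cfsg.Agent.H932.Mt Cfsg.Agent.H24.M12 Cfsg.Agent.H665.RIM Cfsg.Agent.H704.S8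

universe u v

/-- the numbers `12 * 2 ^ i` are not in the list -/
theorem not_mem (i : ℕ) : 12 * 2 ^ i ∉ H640.S8.MTwelve.adm ∧ 2 * (12 * 2 ^ i) ∉ H640.S8.MTwelve.adm := by
  have hb : ∀ n ∈ H640.S8.MTwelve.adm, n ≤ 594 := by decide
  have key : ∀ j : ℕ, j ≤ 6 → 12 * 2 ^ j ∉ H640.S8.MTwelve.adm := by decide
  have h1 : ∀ j : ℕ, 12 * 2 ^ j ∉ H640.S8.MTwelve.adm := by
    intro j
    rcases Nat.lt_or_ge 6 j with h | h
    · intro h2
      have h3 := hb _ h2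
      have h4 : 2 ^ 7 ≤ 2 ^ j := Nat.pow_le_pow_right (by norm_num) h
      omega
    · exact key j h
  refine ⟨h1 i, ?_⟩
  have h2 : 2 * (12 * 2 ^ i) = 12 * 2 ^ (i + 1) := by ring
  rw [h2]
  exact h1 (i + 1)

/-- **COVER for `M12`**, for the prime 2 (all `i`) -/
theorem cover_two {X : Type v} [Group X] (hX : Cfsg.IsM12 X) {D : Set ℕ} (hD : Deg 2 X D)
    {N : Type u} [Group N] [Finite N] (V : Subgroup N) [V.Normal] (hV : Nat.card V = 2)
    (hc : V ≤ Subgroup.center N) (hp : commutator N = ⊤) (hN : Nonempty ((N ⧸ V) ≃* X)) :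
    ∃ χ : N → ℂ, IsIrrCharacter N χ ∧ (∃ v ∈ V, χ v ≠ χ 1) ∧ χ 1 = (12 : ℕ) ∧
      ∀ i : ℕ, 12 * 2 ^ i ∉ D ∧ 2 * (12 * 2 ^ i) ∉ D := by
  have := H640.S8.MTwelve.finite_m12 hX
  obtain ⟨e0⟩ := S0421.result hX _ Cfsg.Agent.CoThreeStd.M12.dodecad_mem
  let e : X ≃* Spor.M12 := e0.trans H640.S8.MTwelve.stabEquiv
  obtain ⟨χ, h1, h2, h3⟩ := H382.RIM.MTwelve.exists_twelve
  have hs : IsSimpleGroup Spor.M12 := Cfsg.Agent.Schreier.MTwelve.isSimpleGroup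
  obtain ⟨ψ, h4, h5, h6⟩ := exists_chi e S2035.result (by rw [Nat.card_congr Multiplicative.toAdd, Nat.card_zmod])
    H109.QO.MTwelve.pce_sig neg_ne_one (fun g => ⟨eq_of_sig, by
      rintro (rfl | rfl)
      · exact map_one _
      · exact sig_neg⟩) h1 h2 V hV hc hp hN
  refine ⟨ψ, h4, h5, ?_, fun i => ⟨fun h => (not_mem i).1 (H640.S8.MTwelve.deg_sub hX hD _ h),
    fun h => (not_mem i).2 (H640.S8.MTwelve.deg_sub hX hD _ h)⟩⟩
  rw [h6, Cfsg.Agent.Blocks.Basic.irr_one_eq_charDegree h1, h3]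

/-- **COVER for `M12`** -/
theorem cover {X : Type v} [Group X] [Finite X] (hX : Cfsg.IsM12 X) (D : Set ℕ) (hD : Deg 2 X D) :
    H529.S8.CoverAt.{u} 2 2 D X := by
  intro N _ _ V _ hV hc hp hN i _
  obtain ⟨χ, h1, h2, h3, h4⟩ := cover_two hX hD V hV hc hp hN
  exact ⟨χ, 12, h1, h2, h3, (h4 i).1, Or.inl (h4 i).2⟩

end Cfsg.Agent.H435.S8.MTwelve
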