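import Cfsg.Agent.H882.S8.Out
import Cfsg.Agent.H859.M24Eleven
import Cfsg.Agent.OddHalf.Table.OutMTwelve
import Cfsg.Agent.H640.S8.MTwelve
import Cfsg.Agent.Schreier.MTwelve
import Cfsg.Agent.H704.S8.Defs3

/-!
# S4908, OUT for the Mathieu group of degree 12 (helper435)

An outer automorphism of `M12` is the conjugation by an element of `M24` exchanging the two dodecads; so an outer involution
does not fix an element of order 11 (`C_{M24}(y)` has odd order).
-/

set_option autoImplicit false

namespace Cfsg.Agent.H435.S8.MTwelve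

open Cfsg Subgroup
open Cfsg.Agent.CoThreeStd.MTwelve Cfsg.Agent.CoThreeStd.OutAut
open Cfsg.Agent.OddHalf.Table.OutMTwelve (al al_mul_al mem_or_mem)
open Cfsg.Agent.MTwelveType.SylowModel (card_M12)
open Cfsg.Agent.SporadicStructure.M11InvPerms (dd)

universe v

/-- an outer involution of `M12` fixes no element of order 11 -/
theorem no_fix {be : MulAut H} (h2 : be * be = 1) (ho : be ∉ (MulAut.conj : H →* MulAut H).range) {y : H}
    (hy : orderOf y = 11) : be y ≠ y := by
  intro hbe
  rcases mem_or_mem be with h | ⟨m, hm⟩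
  · exact ho h
  have hsi : IsSimpleGroup H := Cfsg.Agent.Schreier.MTwelve.isSimpleGroup
  have hcen : center H = ⊥ := H640.S8.MTwelve.center_eq ⟨hsi, card_M12⟩
  have hb : be = al * MulAut.conj m := by
    rw [hm, ← mul_assoc, al_mul_al, one_mul]
  have hm24 : (m : Equiv.Perm GolayPt) ∈ M24 := (Subgroup.mem_inf.mp m.2).1
  have hy24 : (y : Equiv.Perm GolayPt) ∈ M24 := (Subgroup.mem_inf.mp y.2).1
  let d : M24 := ⟨pPi * m.1, mul_mem pPi_mem hm24⟩
  let g : M24 := ⟨y.1, hy24⟩
  have hg : orderOf g = 11 := by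
    rw [← Subgroup.orderOf_coe g, ← hy, ← Subgroup.orderOf_coe y]
  -- `d` commutes with `g`
  have hval : ∀ x : H, (be x).1 = pPi * (m.1 * x.1 * m.1⁻¹) * pPi⁻¹ := by
    intro x
    rw [hb]
    rfl
  have hdg : d * g = g * d := by
    apply Subtype.ext
    change pPi * m.1 * y.1 = y.1 * (pPi * m.1)
    have h3 := hval y
    rw [hbe] at h3
    nth_rw 2 [h3]
    group
  -- `d` is an involution
  have hdd : d * d = 1 := by
    have h4 : ∀ x : H, be (be x) = x := fun x => by
      rw [← MulAut.mul_apply, h2, MulAut.one_apply]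
    have h5 : ∀ x : H, (pPi * m.1 * (pPi * m.1)) * x.1 = x.1 * (pPi * m.1 * (pPi * m.1)) := by
      intro x
      have h6 := hval (be x)
      rw [h4 x, hval x] at h6
      nth_rw 2 [h6]
      group
    have h7 : pPi * m.1 * (pPi * m.1) = (Cfsg.Agent.CoThreeStd.OutAut.alpha m * m : H).1 := by
      change _ = (pPi * m.1 * pPi⁻¹) * m.1
      rw [pPi_inv]
      group
    have h8 : Cfsg.Agent.CoThreeStd.OutAut.alpha m * m = 1 := by
      rw [← Subgroup.mem_bot, ← hcen, Subgroup.mem_center_iff]
      intro x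
      apply Subtype.ext
      rw [h7] at h5
      exact (h5 x).symm
    apply Subtype.ext
    change pPi * m.1 * (pPi * m.1) = 1
    rw [h7, h8]
    rfl
  have hd1 : d ≠ 1 := by
    intro h
    have h9 : pPi * m.1 = 1 := congrArg Subtype.val h
    obtain ⟨z, hz⟩ : ∃ z : GolayPt, z ∈ dd := by decide +kernel
    have h10 : pPi (m.1 z) = z := by
      rw [← Equiv.Perm.mul_apply, h9]
      rfl
    exact pPi_dd _ (dd_of_mem m hz) (by rw [h10]; exact hz)
  apply Cfsg.Agent.H859.M24Eleven.not_two_dvd hg
  have h11 : orderOf d = 2 := orderOf_eq_prime (by rw [sq]; exact hdd) hd1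
  rw [← h11]
  exact Cfsg.Agent.H858.NormC.orderOf_dvd_of_mem (Subgroup.mem_centralizer_singleton_iff.2 hdg)

/-- centralizers of elements of order 11 -/
theorem card_cent {X : Type v} [Group X] [Finite X] (hX : Cfsg.IsM12 X) {y : X} (hy : orderOf y = 11) :
    Nat.card (centralizer ({y} : Set X)) = 11 := by
  have hs : IsSimpleGroup X := hX.1
  have : Fact (Nat.Prime 11) := ⟨by norm_num⟩
  have h1 : Nat.card (zpowers y) = 11 := by rw [Nat.card_zpowers, hy]
  let P : Sylow 11 X := Sylow.ofCard (zpowers y) (by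
    rw [h1, hX.2]
    have h2 : Nat.factorization 95040 11 = 1 := by
      have h3 : (95040 : ℕ) = 11 ^ 1 * 8640 := by norm_num
      rw [h3, Nat.factorization_mul (by norm_num) (by norm_num), Nat.Prime.factorization_pow (by norm_num)]
      rw [Finsupp.add_apply, Finsupp.single_eq_same,
        Nat.factorization_eq_zero_of_not_dvd (show ¬ 11 ∣ 8640 by norm_num)]
    rw [h2, pow_one])
  have h4 := Cfsg.Agent.MTwelve.SylowEleven.centralizer_sylow11 hX.2 P
  have h5 : centralizer ({y} : Set X) = centralizer ((P : Subgroup X) : Set X) := by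
    change centralizer ({y} : Set X) = centralizer ((zpowers y : Subgroup X) : Set X)
    ext x
    rw [mem_centralizer_singleton_iff, mem_centralizer_iff]
    constructor
    · intro h z hz
      obtain ⟨k, rfl⟩ := mem_zpowers_iff.1 hz
      exact ((show Commute x y from h).zpow_right k).eq.symm
    · intro h
      exact (h y (mem_zpowers y)).symm
  rw [h5, show centralizer ((P : Subgroup X) : Set X) = (P : Subgroup X) from h4]
  exact h1

theorem ne_model : charDegrees H ≠ charDegrees (MulAut H) := by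
  have hsi : IsSimpleGroup H := Cfsg.Agent.Schreier.MTwelve.isSimpleGroup
  have hX : Cfsg.IsM12 H := ⟨hsi, card_M12⟩
  have := H640.S8.MTwelve.finite_m12 hX
  exact Cfsg.Agent.H882.S8.Out.ne (p := 11) (by norm_num) (by norm_num) (H640.S8.MTwelve.center_eq hX)
    (by rw [card_M12]; norm_num) (by rw [card_M12]; norm_num) (fun y hy => card_cent hX hy) (by rw [card_M12])
    (H640.S8.MTwelve.index_inn hX) (fun be h2 ho y hy => no_fix h2 ho hy)

/-- **OUT for `M12`** -/
theorem out {X : Type v} [Group X] [Finite X] (hX : Cfsg.IsM12 X) : charDegrees X ≠ charDegrees (MulAut X) := by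
  obtain ⟨e0⟩ := S0421.result hX _ Cfsg.Agent.CoThreeStd.M12.dodecad_mem
  let e : X ≃* H := e0.trans H640.S8.MTwelve.stabEquiv
  rw [Cfsg.Agent.H424.DegTools.charDegrees_congr e, Cfsg.Agent.H424.DegTools.charDegrees_congr (MulAut.congr e)]
  exact ne_model

theorem out_row {X : Type v} [Group X] [Finite X] (hX : Cfsg.IsM12 X) : H704.S8.OutRow3 2 X :=
  ⟨(H640.S8.MTwelve.index_inn hX).le, fun _ => out hX⟩

end Cfsg.Agent.H435.S8.MTwelve
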